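import Cfsg.Agent.Lib.Fusion.Sections
import Cfsg.Agent.S2758
import Mathlib

/-!
# Criteria for sections isomorphic to the symmetric groups of degree three and four
-/

set_option autoImplicit false
set_option linter.unusedSectionVars false
set_option linter.style.haveILetI false
set_option maxRecDepth 100000

namespace Cfsg.Agent.Char.ReeThree

open Cfsg

universe u v

variable {G : Type u} [Group G] [Finite G]

/-- The model map. -/
def dihMap : DihedralGroup 3 → Equiv.Perm (Fin 3)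
  | DihedralGroup.r i => (Equiv.swap 0 1 * Equiv.swap 1 2) ^ i.val
  | DihedralGroup.sr i => Equiv.swap 0 1 * (Equiv.swap 0 1 * Equiv.swap 1 2) ^ i.val

theorem dihMap_facts : (∀ x y : DihedralGroup 3, dihMap (x * y) = dihMap x * dihMap y) ∧
    (∀ x y : DihedralGroup 3, dihMap x = dihMap y → x = y) ∧ (∀ y : Equiv.Perm (Fin 3), ∃ x, dihMap x = y) := by
  refine ⟨?_, ?_, ?_⟩ <;> decide

/-- The dihedral group of order six is the symmetric group of degree three. -/
noncomputable def dihEquiv : DihedralGroup 3 ≃* Equiv.Perm (Fin 3) :=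
  MulEquiv.ofBijective (MonoidHom.mk' dihMap dihMap_facts.1)
    ⟨fun x y h => dihMap_facts.2.1 x y h, fun y => dihMap_facts.2.2 y⟩

theorem involves_s3_iff : Involves (Equiv.Perm (Fin 3)) G ↔ Involves (DihedralGroup 3) G :=
  ⟨fun h => Fusion.involves_surjective h dihEquiv.symm.toMonoidHom dihEquiv.symm.surjective,
    fun h => Fusion.involves_surjective h dihEquiv.toMonoidHom dihEquiv.surjective⟩

theorem involves_of_iso {H : Type*} [Group H] {G' : Type v} [Group G'] (e : G' ≃* G) (h : Involves H G') :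
    Involves H G := by
  obtain ⟨K, f, hf⟩ := Fusion.involves_exists_surjective h
  exact Fusion.involves_of_surjective (f.comp (K.equivMapOfInjective e.toMonoidHom e.injective).symm.toMonoidHom)
    (hf.comp (K.equivMapOfInjective e.toMonoidHom e.injective).symm.surjective)

theorem card_dvd_of_involves {H : Type*} [Group H] (h : Involves H G) : Nat.card H ∣ Nat.card G := by
  obtain ⟨K, f, hf⟩ := Fusion.involves_exists_surjective h
  exact (Subgroup.card_dvd_of_surjective f hf).trans K.card_subgroup_dvd_card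

/-- A quotient involves no more. -/
theorem not_involves_quotient {H : Type*} [Group H] {S : Type v} [Group S] (f : S →* G) (hf : Function.Surjective f)
    (h : ¬ Involves H S) : ¬ Involves H G := by
  intro hG
  obtain ⟨K, g, hg⟩ := Fusion.involves_exists_surjective hG
  refine h (Fusion.involves_of_surjective (K := K.comap f) (g.comp (f.subgroupComap K)) (hg.comp ?_))
  rintro ⟨x, hx⟩
  obtain ⟨s, rfl⟩ := hf x
  exact ⟨⟨s, hx⟩, rfl⟩

/-- Abelian Sylow two-subgroups exclude `S₄`. -/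
theorem not_involves_four_of_comm
    (h : ∀ P : Subgroup G, IsPGroup 2 P → ∀ x ∈ P, ∀ y ∈ P, x * y = y * x) :
    ¬ Involves (Equiv.Perm (Fin 4)) G := by
  classical
  intro hI
  obtain ⟨K, f, hf⟩ := Fusion.involves_exists_surjective hI
  haveI : Fact (Nat.Prime 2) := ⟨Nat.prime_two⟩
  obtain ⟨S⟩ := (inferInstance : Nonempty (Sylow 2 K))
  have hcomm : ∀ x ∈ (S.mapSurjective hf : Subgroup (Equiv.Perm (Fin 4))),
      ∀ y ∈ (S.mapSurjective hf : Subgroup (Equiv.Perm (Fin 4))), x * y = y * x := by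
    intro x hx y hy
    obtain ⟨a, ha, rfl⟩ := hx
    obtain ⟨b, hb, rfl⟩ := hy
    rw [← map_mul, ← map_mul]
    exact congrArg f (Subtype.ext (h ((S : Subgroup K).map K.subtype) (S.isPGroup'.map _) _ ⟨a, ha, rfl⟩ _ ⟨b, hb, rfl⟩))
  set a : Equiv.Perm (Fin 4) := Equiv.swap 0 1
  set b : Equiv.Perm (Fin 4) := Equiv.swap 0 2 * Equiv.swap 1 3
  have hD : IsPGroup 2 (Subgroup.closure ({a, b} : Set (Equiv.Perm (Fin 4)))) := by
    let L : List (Equiv.Perm (Fin 4)) := [1, a, b, a * b, b * a, b * a * b, a * b * a, a * b * a * b]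
    have hmul : ∀ x ∈ L, ∀ y ∈ L, x * y ∈ L := by decide
    have hinv : ∀ x ∈ L, x⁻¹ ∈ L := by decide
    have hpow : ∀ x ∈ L, x ^ 4 = 1 := by decide
    let D : Subgroup (Equiv.Perm (Fin 4)) :=
      { carrier := {x | x ∈ L}
        one_mem' := by decide
        mul_mem' := fun hx hy => hmul _ hx _ hy
        inv_mem' := fun hx => hinv _ hx }
    refine IsPGroup.to_le (K := D) (fun x => ⟨2, Subtype.ext ?_⟩) ((Subgroup.closure_le _).2 ?_)
    · rw [Subgroup.coe_pow, Subgroup.coe_one]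
      exact hpow _ x.2
    · rintro x (rfl | rfl)
      · show a ∈ L
        decide
      · show b ∈ L
        decide
  obtain ⟨T, hT⟩ := hD.exists_le_sylow
  obtain ⟨c, hc⟩ := MulAction.exists_smul_eq (Equiv.Perm (Fin 4)) (S.mapSurjective hf) T
  have hmem : ∀ x ∈ (T : Subgroup (Equiv.Perm (Fin 4))), c⁻¹ * x * c ∈ (S.mapSurjective hf : Subgroup (Equiv.Perm (Fin 4))) := by
    intro x hx
    rw [← hc, Sylow.coe_subgroup_smul] at hx
    obtain ⟨y, hy, rfl⟩ := hx
    show c⁻¹ * (c * y * c⁻¹) * c ∈ _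
    rwa [show c⁻¹ * (c * y * c⁻¹) * c = y by group]
  have hab := hcomm _ (hmem a (hT (Subgroup.subset_closure (Or.inl rfl)))) _ (hmem b (hT (Subgroup.subset_closure (Or.inr rfl))))
  have e : a * b = b * a := by
    calc a * b = c * ((c⁻¹ * a * c) * (c⁻¹ * b * c)) * c⁻¹ := by group
      _ = b * a := by rw [hab]; group
  exact absurd e (by decide)

/-- Involutions central in their Sylow subgroups with two-closed centralisers exclude `S₄`. -/
theorem not_involves_four_of_closed
    (hcen : ∀ P : Subgroup G, IsPGroup 2 P → ∀ z ∈ P, z * z = 1 → ∀ x ∈ P, x * z = z * x)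
    (hclosed : ∀ z : G, z * z = 1 → z ≠ 1 → ∀ x y : G, (∃ k : ℕ, x ^ 2 ^ k = 1) → (∃ k : ℕ, y ^ 2 ^ k = 1) →
      x * z = z * x → y * z = z * y → ∃ k : ℕ, (x * y) ^ 2 ^ k = 1) :
    ¬ Involves (Equiv.Perm (Fin 4)) G := by
  classical
  intro hI
  obtain ⟨K, f, hf⟩ := Fusion.involves_exists_surjective hI
  haveI : Fact (Nat.Prime 2) := ⟨Nat.prime_two⟩
  -- the four-group and a Sylow subgroup of its preimage
  let v : Equiv.Perm (Fin 4) := Equiv.swap 0 1 * Equiv.swap 2 3
  let w : Equiv.Perm (Fin 4) := Equiv.swap 0 2 * Equiv.swap 1 3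
  let L : List (Equiv.Perm (Fin 4)) := [1, v, w, v * w]
  have hmul : ∀ x ∈ L, ∀ y ∈ L, x * y ∈ L := by decide
  have hinv : ∀ x ∈ L, x⁻¹ ∈ L := by decide
  have hsq : ∀ x ∈ L, x * x = 1 := by decide
  have hnorm : ∀ x ∈ L, ∀ g : Equiv.Perm (Fin 4), g * x * g⁻¹ ∈ L := by decide
  let V : Subgroup (Equiv.Perm (Fin 4)) :=
    { carrier := {x | x ∈ L}
      one_mem' := by decide
      mul_mem' := fun hx hy => hmul _ hx _ hy
      inv_mem' := fun hx => hinv _ hx }
  haveI : V.Normal := ⟨fun x hx g => hnorm x hx g⟩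
  set W := V.comap f with hW
  obtain ⟨T⟩ := (inferInstance : Nonempty (Sylow 2 W))
  have hsup := Sylow.normalizer_sup_eq_top T
  set N := Subgroup.normalizer (((T : Subgroup W).map W.subtype : Subgroup K) : Set K) with hN
  -- the Sylow subgroup covers the four-group
  let g : W →* V := f.subgroupComap V
  have hg : Function.Surjective g := fun x => by
    obtain ⟨k, hk⟩ := hf x.1
    exact ⟨⟨k, by show f k ∈ V; rw [hk]; exact x.2⟩, Subtype.ext hk⟩
  have hV : IsPGroup 2 V := fun x => ⟨1, Subtype.ext (by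
    rw [pow_one, pow_two, Subgroup.coe_mul, Subgroup.coe_one]; exact hsq _ x.2)⟩
  have htop : (T.mapSurjective hg : Subgroup V) = ⊤ :=
    ((T.mapSurjective hg).is_maximal' (fun x => let ⟨k, hk⟩ := hV x.1; ⟨k, Subtype.ext hk⟩) le_top).symm
  have hcover : ∀ x : W, ∃ s ∈ (T : Subgroup W), f (s : K) = f (x : K) := fun x => by
    obtain ⟨s, hs, e⟩ := (htop ▸ Subgroup.mem_top (g x) : g x ∈ (T.mapSurjective hg : Subgroup V))
    exact ⟨s, hs, congrArg Subtype.val e⟩
  -- the normalizer maps onto the symmetric group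
  have hfN : ∀ y : Equiv.Perm (Fin 4), ∃ k ∈ N, f k = y := by
    intro y
    obtain ⟨k, rfl⟩ := hf y
    have hk : k ∈ N ⊔ W := hsup.symm ▸ Subgroup.mem_top k
    obtain ⟨a, ha, b, hb, rfl⟩ := Subgroup.mem_sup_of_normal_right.1 hk
    obtain ⟨s, hs, e⟩ := hcover ⟨b, hb⟩
    refine ⟨a * (s : K), N.mul_mem ha (Subgroup.le_normalizer ⟨s, hs, rfl⟩), ?_⟩
    rw [map_mul, map_mul, e]
  -- an involution in it
  obtain ⟨z, hzT, hz2, hz1⟩ : ∃ z ∈ (T : Subgroup W).map W.subtype, z * z = 1 ∧ z ≠ 1 := by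
    have hne : (T : Subgroup W) ≠ ⊥ := fun h => by
      obtain ⟨k, hk⟩ := hf v
      obtain ⟨s, hs, e⟩ := hcover ⟨k, show f k ∈ V by rw [hk]; show v ∈ L; decide⟩
      rw [h, Subgroup.mem_bot] at hs
      rw [hs, Subgroup.coe_one, map_one] at e
      change 1 = f k at e
      rw [hk] at e
      exact absurd e (by decide)
    obtain ⟨n, hn, hcard⟩ := T.isPGroup'.nontrivial_iff_card.1 ((Subgroup.nontrivial_iff_ne_bot _).2 hne)
    obtain ⟨s, hs⟩ := exists_prime_orderOf_dvd_card' (G := (T : Subgroup W)) 2 (hcard ▸ dvd_pow_self 2 hn.ne')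
    refine ⟨((s : W) : K), ⟨s, s.2, rfl⟩, ?_, fun h => ?_⟩
    · have := congrArg (fun x : (T : Subgroup W) => ((x : W) : K)) (pow_orderOf_eq_one s)
      simpa [hs, pow_two] using this
    · have : s = 1 := Subtype.ext (Subtype.ext h)
      rw [this, orderOf_one] at hs
      omega
  -- two-elements of the normalizer commute with it
  have hcz : ∀ x ∈ N, ∀ k : ℕ, x ^ 2 ^ k = 1 → x * z = z * x := by
    intro x hx k hk
    have hX : IsPGroup 2 (Subgroup.zpowers x) := by
      obtain ⟨j, -, hj⟩ := (Nat.dvd_prime_pow Nat.prime_two).1 (orderOf_dvd_of_pow_eq_one hk)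
      exact IsPGroup.of_card (n := j) (by rw [Nat.card_zpowers, hj])
    have hP := hX.to_sup_of_normal_right' (T.isPGroup'.map W.subtype) (Subgroup.zpowers_le.2 hx)
    exact Subtype.ext (hcen _ (hP.map K.subtype) (z : G) ⟨z, Subgroup.mem_sup_right hzT, rfl⟩
      (congrArg Subtype.val hz2) (x : G) ⟨x, Subgroup.mem_sup_left (Subgroup.mem_zpowers x), rfl⟩)
  have hlift : ∀ y : Equiv.Perm (Fin 4), y * y = 1 → ∃ x ∈ N, (∃ k : ℕ, x ^ 2 ^ k = 1) ∧ f x = y := by
    intro y hy
    obtain ⟨k, hk, rfl⟩ := hfN y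
    set e := (orderOf k).factorization 2
    set m := orderOf k / 2 ^ e
    have hm : ¬ 2 ∣ m := Nat.not_dvd_ordCompl Nat.prime_two (orderOf_pos k).ne'
    refine ⟨k ^ m, N.pow_mem hk _, ⟨e, ?_⟩, ?_⟩
    · rw [← pow_mul, mul_comm, Nat.ordProj_mul_ordCompl_eq_self, pow_orderOf_eq_one]
    · obtain ⟨j, hj⟩ := Nat.odd_iff.2 (Nat.two_dvd_ne_zero.1 hm)
      rw [map_pow, hj, pow_succ, pow_mul, pow_two, hy, one_pow, one_mul]
  obtain ⟨x, hx, ⟨kx, hkx⟩, hfx⟩ := hlift (Equiv.swap 0 1) (by decide)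
  obtain ⟨y, hy, ⟨ky, hky⟩, hfy⟩ := hlift (Equiv.swap 1 2) (by decide)
  obtain ⟨k, hk⟩ := hclosed (z : G) (congrArg Subtype.val hz2) (fun h => hz1 (Subtype.ext h)) (x : G) (y : G)
    ⟨kx, congrArg Subtype.val hkx⟩ ⟨ky, congrArg Subtype.val hky⟩ (congrArg Subtype.val (hcz x hx kx hkx))
    (congrArg Subtype.val (hcz y hy ky hky))
  have hxy : (x * y) ^ 2 ^ k = 1 := Subtype.ext (by
    rw [Subgroup.coe_pow, Subgroup.coe_mul, Subgroup.coe_one]; exact hk)
  have hd := orderOf_dvd_of_pow_eq_one (show f (x * y) ^ 2 ^ k = 1 by rw [← map_pow, hxy, map_one])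
  rw [map_mul, hfx, hfy, show orderOf ((Equiv.swap 0 1 : Equiv.Perm (Fin 4)) * Equiv.swap 1 2) = 3 from
    orderOf_eq_prime (hp := ⟨Nat.prime_three⟩) (by decide) (by decide)] at hd
  have := Nat.prime_three.dvd_of_dvd_pow hd
  norm_num at this

/-- No element inverts a nontrivial three-element: no section `S₃`. -/
theorem not_involves_three (h : ∀ x y : G, (∃ k : ℕ, orderOf y = 3 ^ k) → y ≠ 1 → x * y * x⁻¹ ≠ y⁻¹) :
    ¬ Involves (Equiv.Perm (Fin 3)) G := by
  haveI : Fact (Nat.Prime 3) := ⟨Nat.prime_three⟩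
  intro hI
  obtain ⟨x, y, -, hy, hy1, hxy⟩ := (S2758.result (p := 3) (by norm_num)).2.1 (involves_s3_iff.1 hI)
  exact h x y hy hy1 hxy

/-- An involution inverting an element of order three gives a section `S₃`. -/
theorem involves_three_of_inverted {X : Type u} [Group X] [Finite X] {r a : X} (hr : orderOf r = 3) (ha : a * a = 1) (hinv : a * r * a⁻¹ = r⁻¹) :
    Cfsg.Involves (Equiv.Perm (Fin 3)) X := by
  have hr3 : ∀ i j : ℕ, i % 3 = j % 3 → r ^ i = r ^ j := fun i j h => by
    rw [← pow_mod_orderOf r i, ← pow_mod_orderOf r j, hr, h]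
  have hmove : ∀ i : ℕ, r ^ i * a = a * r ^ (2 * i) := fun i => by
    have h1 : a * r ^ i * a⁻¹ = r ^ (2 * i) := by
      rw [← conj_pow, hinv, pow_mul]
      congr 1
      refine inv_eq_of_mul_eq_one_right ?_
      rw [← pow_succ', show 2 + 1 = orderOf r by omega, pow_orderOf_eq_one]
    have ha' : a⁻¹ = a := inv_eq_of_mul_eq_one_right ha
    rw [← h1, ha', show a * (a * r ^ i * a) = (a * a) * (r ^ i * a) by group, ha, one_mul]
  have hmove' : ∀ i j : ℕ, r ^ i * (a * r ^ j) = a * r ^ (2 * i + j) := fun i j => by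
    rw [← mul_assoc, hmove, mul_assoc, ← pow_add]
  let f : DihedralGroup 3 → X := fun
    | DihedralGroup.r i => r ^ i.val
    | DihedralGroup.sr i => a * r ^ i.val
  have hf : ∀ x y, f (x * y) = f x * f y := by
    intro x y
    rcases x with i | i <;> rcases y with j | j
    · show r ^ (i + j).val = r ^ i.val * r ^ j.val
      rw [← pow_add]
      exact hr3 _ _ (by rw [ZMod.val_add]; omega)
    · show a * r ^ (j - i).val = r ^ i.val * (a * r ^ j.val)
      rw [hmove']
      congr 1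
      exact hr3 _ _ (by revert i j; decide)
    · show a * r ^ (i + j).val = a * r ^ i.val * r ^ j.val
      rw [mul_assoc, ← pow_add]
      congr 1
      exact hr3 _ _ (by rw [ZMod.val_add]; omega)
    · show r ^ (j - i).val = a * r ^ i.val * (a * r ^ j.val)
      rw [mul_assoc, hmove', ← mul_assoc, ha, one_mul]
      exact hr3 _ _ (by revert i j; decide)
  let F : DihedralGroup 3 →* X := MonoidHom.mk' f hf
  have hinj : Function.Injective F := by
    rw [← MonoidHom.ker_eq_bot_iff, Subgroup.eq_bot_iff_forall]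
    rintro (i | i) hi
    · rw [MonoidHom.mem_ker] at hi
      have h1 : orderOf r ∣ i.val := orderOf_dvd_of_pow_eq_one hi
      rw [hr] at h1
      have := ZMod.val_lt i
      have h2 : i.val = 0 := by omega
      rw [(ZMod.val_eq_zero i).1 h2]
      rfl
    · rw [MonoidHom.mem_ker] at hi
      have h1 : a * r ^ i.val = 1 := hi
      have h2 : a * r * a⁻¹ = r := by
        rw [eq_inv_of_mul_eq_one_left h1]
        group
      rw [hinv] at h2
      have h3 : r ^ 2 = 1 := by rw [pow_two]; nth_rewrite 2 [← h2]; exact mul_inv_cancel r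
      have := Nat.le_of_dvd two_pos (hr ▸ orderOf_dvd_of_pow_eq_one h3)
      omega
  exact involves_s3_iff.2 (Fusion.involves_of_surjective (MonoidHom.ofInjective hinj).symm.toMonoidHom
    (MonoidHom.ofInjective hinj).symm.surjective)

/-- All two-subgroups are abelian. -/
def TwoAbelian (G : Type u) [Group G] : Prop :=
  ∀ P : Subgroup G, IsPGroup 2 P → ∀ x ∈ P, ∀ y ∈ P, x * y = y * x

theorem twoAbelian_of_injective {H : Type v} [Group H] (h : TwoAbelian G) (f : H →* G) (hf : Function.Injective f) :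
    TwoAbelian H := fun P hP x hx y hy =>
  hf (by rw [map_mul, map_mul]; exact h _ (hP.map f) _ ⟨x, hx, rfl⟩ _ ⟨y, hy, rfl⟩)

theorem twoAbelian_prod {A : Type*} [CommGroup A] {B : Type*} [Group B] (h : TwoAbelian B) : TwoAbelian (A × B) :=
  fun _ hP x hx y hy => Prod.ext (mul_comm _ _) (h _ (hP.map (MonoidHom.snd A B)) _ ⟨x, hx, rfl⟩ _ ⟨y, hy, rfl⟩)

/-- A subgroup of odd index with abelian two-subgroups suffices. -/
theorem twoAbelian_of_odd_index {C : Subgroup G} (hi : Odd C.index) (h : TwoAbelian C) : TwoAbelian G := by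
  haveI : Fact (Nat.Prime 2) := ⟨Nat.prime_two⟩
  intro P hP x hx y hy
  obtain ⟨S⟩ := (inferInstance : Nonempty (Sylow 2 C))
  have hi2 : ¬ 2 ∣ ((S : Subgroup C).map C.subtype).index := by
    rw [Subgroup.index_map_subtype]
    exact fun hd => (Nat.prime_two.dvd_mul.1 hd).elim S.not_dvd_index (Nat.two_dvd_ne_zero.2 (Nat.odd_iff.1 hi))
  obtain ⟨T, hT⟩ := hP.exists_le_sylow
  obtain ⟨c, hc⟩ := MulAction.exists_smul_eq G ((S.isPGroup'.map C.subtype).toSylow hi2) T
  have hmem : ∀ z ∈ P, ∃ w ∈ (S : Subgroup C), z = c * (w : G) * c⁻¹ := by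
    intro z hz
    have h1 := hT hz
    rw [← hc, Sylow.coe_subgroup_smul] at h1
    obtain ⟨_, ⟨w, hw, rfl⟩, rfl⟩ := h1
    exact ⟨w, hw, rfl⟩
  obtain ⟨a, ha, rfl⟩ := hmem x hx
  obtain ⟨b, hb, rfl⟩ := hmem y hy
  have hab := congrArg Subtype.val (h _ S.isPGroup' a ha b hb)
  rw [Subgroup.coe_mul, Subgroup.coe_mul] at hab
  rw [show c * (a : G) * c⁻¹ * (c * b * c⁻¹) = c * (a * b) * c⁻¹ by group,
    show c * (b : G) * c⁻¹ * (c * a * c⁻¹) = c * (b * a) * c⁻¹ by group, hab]

end Cfsg.Agent.Char.ReeThree
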