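import Cfsg.Agent.Lib.Char.ReeThree.Branches.General
import Cfsg.Agent.Lib.Lie.UnitarySylow

/-!
# `PSU₃(2ⁿ)`: no section `S₄`, a section `S₃`
-/

set_option autoImplicit false
set_option linter.unusedSectionVars false
set_option linter.style.haveILetI false
set_option linter.unnecessarySeqFocus false

namespace Cfsg.Agent.Char.ReeThree.Branch

open Cfsg Matrix Cfsg.Agent.Classical Cfsg.Agent.Lie.UnitarySylow
open Cfsg.Agent.Local.FS (PSU3Simple.ext_val PSU3Simple.val_mul PSU3Simple.exists_SU_of_gram PSU3Simple.card_SU3)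

variable {F : Type} [Field F] [Fintype F] [CharP F 2] {q : ℕ} {σ : F ≃+* F} (hσ : IsUSigma q σ)

local notation "M₃" => Matrix (Fin 3) (Fin 3) F

/-- upper unitriangular -/
def Uni (A : M₃) : Prop :=
  A 1 0 = 0 ∧ A 2 0 = 0 ∧ A 2 1 = 0 ∧ A 0 0 = 1 ∧ A 1 1 = 1 ∧ A 2 2 = 1

theorem uni_mul {A B : M₃} (hA : Uni A) (hB : Uni B) : Uni (A * B) := by
  obtain ⟨a1, a2, a3, a4, a5, a6⟩ := hA
  obtain ⟨b1, b2, b3, b4, b5, b6⟩ := hB
  simp [Uni, Matrix.mul_apply, Fin.sum_univ_three, a1, a2, a3, a4, a5, a6, b1, b2, b3, b4, b5, b6]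

theorem uni_pow_four {A : M₃} (hA : Uni A) : A * A * (A * A) = 1 := by
  obtain ⟨a1, a2, a3, a4, a5, a6⟩ := hA
  have h2 := CharTwo.two_eq_zero (R := F)
  ext i j
  fin_cases i <;> fin_cases j <;>
    simp [Matrix.mul_apply, Fin.sum_univ_three, a1, a2, a3, a4, a5, a6] <;>
    first
      | ring1
      | linear_combination (2 * A 0 1) * h2
      | linear_combination (2 * A 1 2) * h2
      | linear_combination (2 * A 0 2 + 3 * A 0 1 * A 1 2) * h2

theorem diag_pow {A : M₃} (h1 : A 1 0 = 0) (h2 : A 2 0 = 0) (h3 : A 2 1 = 0) (m : ℕ) :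
    (A ^ m) 1 0 = 0 ∧ (A ^ m) 2 0 = 0 ∧ (A ^ m) 2 1 = 0 ∧ ∀ i, (A ^ m) i i = A i i ^ m := by
  induction m with
  | zero => simp
  | succ k ih =>
    obtain ⟨k1, k2, k3, k4⟩ := ih
    refine ⟨?_, ?_, ?_, fun i => ?_⟩ <;> rw [pow_succ, Matrix.mul_apply, Fin.sum_univ_three]
    · simp [k1, h1, h2]
    · simp [k2, k3, h1, h2]
    · simp [k2, k3, h3]
    · fin_cases i <;> simp [k1, k2, k3, k4, h1, h2, h3, pow_succ]

theorem uni_of_comm {A : M₃} {u : U σ} (hx : u.x = 0) (hz : u.z ≠ 0) (h : A * M3 u = M3 u * A) {k : ℕ}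
    (hk : A ^ 2 ^ k = 1) : Uni A := by
  haveI : Fact (Nat.Prime 2) := ⟨Nat.prime_two⟩
  have e : ∀ i j, (A * M3 u) i j = (M3 u * A) i j := fun i j => by rw [h]
  have e12 := e 1 2
  have e22 := e 2 2
  have e01 := e 0 1
  simp [M3, hx, Matrix.mul_apply, Fin.sum_univ_three] at e12 e22 e01
  have h1 : A 1 0 = 0 := by simpa [hz] using e12
  have h2 : A 2 0 = 0 := by simpa [hz] using e22
  have h3 : A 2 1 = 0 := by simpa [hz] using e01
  obtain ⟨-, -, -, hd⟩ := diag_pow h1 h2 h3 (2 ^ k)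
  have hone : ∀ i, A i i = 1 := fun i => sub_eq_zero.1 (eq_zero_of_pow_eq_zero (n := 2 ^ k) (by
    rw [sub_pow_char_pow, one_pow, ← hd i, hk, Matrix.one_apply_eq, sub_self]))
  exact ⟨h1, h2, h3, hone 0, hone 1, hone 2⟩

include hσ in
theorem exists_model : ∃ (a : F) (E : (letI := uGroup hσ; U σ →* ↥(Cfsg.SU 3 F q))), a + σ a = 1 ∧
    Function.Injective E ∧ ∀ g, (E g).1.1 = P3 a * M3 g * Q3 a := by
  letI := uGroup hσ
  obtain ⟨a, ha⟩ : ∃ a : F, a + σ a = 1 := by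
    have h := (card_fix hσ).2 1 (map_one σ)
    obtain ⟨⟨a, ha⟩⟩ := (Nat.card_pos_iff.1 (by rw [h]; have := hσ.two_le; omega : 0 < Nat.card {z : F // z + σ z = 1})).1
    exact ⟨a, ha⟩
  obtain ⟨hQP, hPQ, hP, hQ⟩ := basis_facts ha
  have hmem : ∀ g : U σ, ∃ x : ↥(Cfsg.SU 3 F q), x.1.1 = P3 a * M3 g * Q3 a := fun g => by
    refine PSU3Simple.exists_SU_of_gram hσ _ ?_ ?_
    · rw [Matrix.det_mul, Matrix.det_mul, M3_det, mul_one, ← Matrix.det_mul, hPQ, Matrix.det_one]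
    · rw [Matrix.map_mul, Matrix.map_mul, Matrix.transpose_mul, Matrix.transpose_mul]
      calc (Q3 a)ᵀ * ((M3 g)ᵀ * (P3 a)ᵀ) * ((P3 a).map σ * (M3 g).map σ * (Q3 a).map σ)
          = (Q3 a)ᵀ * ((M3 g)ᵀ * ((P3 a)ᵀ * (P3 a).map σ) * (M3 g).map σ) * (Q3 a).map σ := by
            simp only [Matrix.mul_assoc]
        _ = 1 := by rw [hP, M3_gram hσ, hQ]
  choose E hE using hmem
  refine ⟨a, MonoidHom.mk' E fun g h => PSU3Simple.ext_val ?_, ha, fun g h hgh => ?_, hE⟩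
  · rw [hE, PSU3Simple.val_mul, hE, hE, M3_mul hσ]
    calc P3 a * (M3 g * M3 h) * Q3 a = P3 a * M3 g * (Q3 a * P3 a) * (M3 h * Q3 a) := by
          rw [hQP, Matrix.mul_one]; simp only [Matrix.mul_assoc]
      _ = P3 a * M3 g * Q3 a * (P3 a * M3 h * Q3 a) := by simp only [Matrix.mul_assoc]
  · have h2 := congrArg (fun x : ↥(Cfsg.SU 3 F q) => Q3 a * x.1.1 * P3 a) (show E g = E h from hgh)
    simp only [hE] at h2
    rw [show Q3 a * (P3 a * M3 g * Q3 a) * P3 a = (Q3 a * P3 a) * M3 g * (Q3 a * P3 a) by simp only [Matrix.mul_assoc],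
      show Q3 a * (P3 a * M3 h * Q3 a) * P3 a = (Q3 a * P3 a) * M3 h * (Q3 a * P3 a) by simp only [Matrix.mul_assoc],
      hQP, Matrix.one_mul, Matrix.mul_one, Matrix.one_mul, Matrix.mul_one] at h2
    exact U.ext (by simpa [M3] using congrFun (congrFun h2 1) 2) (by simpa [M3] using congrFun (congrFun h2 0) 2)

include hσ in
theorem su_not_involves_four {n : ℕ} (hn : 1 ≤ n) (hq : q = 2 ^ n) :
    ¬ Involves (Equiv.Perm (Fin 4)) ↥(Cfsg.SU 3 F q) := by
  classical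
  letI := uGroup hσ
  haveI : Fact (Nat.Prime 2) := ⟨Nat.prime_two⟩
  refine not_involves_four_of_closed ?_ ?_
  · intro P hP z hz hz2 x hx
    obtain ⟨S, hS⟩ := hP.exists_le_sylow
    obtain ⟨e⟩ := sylow_SU hσ hn hq S
    have hu : e.symm ⟨z, hS hz⟩ * e.symm ⟨z, hS hz⟩ = 1 := by
      rw [← map_mul, show (⟨z, hS hz⟩ : (S : Subgroup _)) * ⟨z, hS hz⟩ = 1 from Subtype.ext hz2, map_one]
    have hc := Subgroup.mem_center_iff.1 ((mem_center_iff hσ _).2 ((sq_eq_one_iff hσ _).1 hu)) (e.symm ⟨x, hS hx⟩)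
    rw [← map_mul, ← map_mul] at hc
    exact congrArg Subtype.val (e.symm.injective hc)
  · intro z hz2 hz1 x y hx hy hxz hyz
    obtain ⟨a, E, ha, hE, hEv⟩ := exists_model hσ
    obtain ⟨hQP, hPQ, -, -⟩ := basis_facts ha
    have hR : IsPGroup 2 E.range := (Lie.UnitarySylow.isPGroup hσ).of_surjective E.rangeRestrict E.rangeRestrict_surjective
    have hi : ¬ 2 ∣ E.range.index := by
      obtain ⟨S, hS⟩ := hR.exists_le_sylow
      obtain ⟨e⟩ := sylow_SU hσ hn hq S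
      have heq : E.range = (S : Subgroup _) := Subgroup.eq_of_le_of_card_ge hS (le_of_eq (by
        rw [← Nat.card_congr e.toEquiv, Nat.card_congr (MonoidHom.ofInjective hE).toEquiv]))
      rw [heq]
      exact S.not_dvd_index
    have hzp : IsPGroup 2 (Subgroup.zpowers z) :=
      IsPGroup.of_card (n := 1) (by rw [Nat.card_zpowers, pow_one, orderOf_eq_prime (by rw [pow_two, hz2]) hz1])
    obtain ⟨T, hT⟩ := hzp.exists_le_sylow
    obtain ⟨c, hc⟩ := MulAction.exists_smul_eq ↥(Cfsg.SU 3 F q) (hR.toSylow hi) T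
    have h1 := hT (Subgroup.mem_zpowers z)
    rw [← hc, Sylow.coe_subgroup_smul] at h1
    obtain ⟨_, ⟨u, rfl⟩, hu⟩ := h1
    replace hu : c * E u * c⁻¹ = z := hu
    subst hu
    have hu2 : u * u = 1 := hE (by
      rw [map_mul, map_one, show E u * E u = c⁻¹ * ((c * E u * c⁻¹) * (c * E u * c⁻¹)) * c by group, hz2]
      group)
    have hux : u.x = 0 := (sq_eq_one_iff hσ _).1 hu2
    have huz : u.z ≠ 0 := fun h0 => hz1 (by
      rw [show u = 1 from U.ext (by rw [hux, one_x hσ]) (by rw [h0, one_z hσ]), map_one]; group)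
    let φ : ↥(Cfsg.SU 3 F q) →* M₃ :=
      { toFun := fun g => Q3 a * (c⁻¹ * g * c).1.1 * P3 a
        map_one' := by
          rw [show c⁻¹ * 1 * c = 1 by group]
          show Q3 a * 1 * P3 a = 1
          rw [Matrix.mul_one, hQP]
        map_mul' := fun g h => by
          rw [show c⁻¹ * (g * h) * c = (c⁻¹ * g * c) * (c⁻¹ * h * c) by group, PSU3Simple.val_mul]
          calc Q3 a * ((c⁻¹ * g * c).1.1 * (c⁻¹ * h * c).1.1) * P3 a
              = Q3 a * (c⁻¹ * g * c).1.1 * (P3 a * Q3 a) * ((c⁻¹ * h * c).1.1 * P3 a) := by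
                rw [hPQ, Matrix.mul_one]; simp only [Matrix.mul_assoc]
            _ = _ := by simp only [Matrix.mul_assoc] }
    have hφz : φ (c * E u * c⁻¹) = M3 u := by
      show Q3 a * (c⁻¹ * (c * E u * c⁻¹) * c).1.1 * P3 a = M3 u
      rw [show c⁻¹ * (c * E u * c⁻¹) * c = E u by group, hEv]
      calc Q3 a * (P3 a * M3 u * Q3 a) * P3 a = (Q3 a * P3 a) * M3 u * (Q3 a * P3 a) := by
            simp only [Matrix.mul_assoc]
        _ = M3 u := by rw [hQP, Matrix.one_mul, Matrix.mul_one]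
    have key : ∀ g, (∃ k : ℕ, g ^ 2 ^ k = 1) → g * (c * E u * c⁻¹) = c * E u * c⁻¹ * g → Uni (φ g) := by
      rintro g ⟨k, hk⟩ hg
      exact uni_of_comm hux huz (by rw [← hφz, ← map_mul, hg, map_mul]) (k := k) (by rw [← map_pow, hk, map_one])
    have h4 := uni_pow_four (uni_mul (key x hx hxz) (key y hy hyz))
    rw [← map_mul, ← map_mul, ← map_mul, ← map_one φ] at h4
    refine ⟨2, ?_⟩
    rw [show (2 : ℕ) ^ 2 = 4 by norm_num, show (x * y) ^ 4 = x * y * (x * y) * (x * y * (x * y)) by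
      rw [show 4 = 2 + 2 by norm_num, pow_add, pow_two]]
    have hinj : Function.Injective φ := fun g h hgh => by
      have h5 := congrArg (fun M : M₃ => P3 a * M * Q3 a) (show Q3 a * (c⁻¹ * g * c).1.1 * P3 a = Q3 a * (c⁻¹ * h * c).1.1 * P3 a from hgh)
      simp only [← Matrix.mul_assoc, hPQ, Matrix.one_mul] at h5
      simp only [Matrix.mul_assoc, hPQ, Matrix.mul_one] at h5
      exact mul_left_cancel (mul_right_cancel (PSU3Simple.ext_val h5))
    exact hinj h4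

include hσ in
theorem psu_involves_three : Involves (Equiv.Perm (Fin 3)) (Cfsg.PSU 3 F q) := by
  obtain ⟨r, hr⟩ := PSU3Simple.exists_SU_of_gram hσ (!![0, 0, 1; 1, 0, 0; 0, 1, 0] : M₃)
    (by simp [Matrix.det_fin_three])
    (by ext i j; fin_cases i <;> fin_cases j <;> simp [Matrix.mul_apply, Fin.sum_univ_three])
  obtain ⟨a, ha⟩ := PSU3Simple.exists_SU_of_gram hσ (!![0, 1, 0; 1, 0, 0; 0, 0, 1] : M₃)
    (by simp [Matrix.det_fin_three, CharTwo.neg_eq])
    (by ext i j; fin_cases i <;> fin_cases j <;> simp [Matrix.mul_apply, Fin.sum_univ_three])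
  have h3 : r * r * r = 1 := PSU3Simple.ext_val (by
    simp only [PSU3Simple.val_mul, hr]
    show _ = (1 : M₃)
    ext i j; fin_cases i <;> fin_cases j <;> simp [Matrix.mul_apply, Fin.sum_univ_three])
  have h2 : a * a = 1 := PSU3Simple.ext_val (by
    simp only [PSU3Simple.val_mul, ha]
    show _ = (1 : M₃)
    ext i j; fin_cases i <;> fin_cases j <;> simp [Matrix.mul_apply, Fin.sum_univ_three])
  have har : a * r = r * r * a := PSU3Simple.ext_val (by
    simp only [PSU3Simple.val_mul, hr, ha]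
    ext i j; fin_cases i <;> fin_cases j <;> simp [Matrix.mul_apply, Fin.sum_univ_three])
  let π : ↥(Cfsg.SU 3 F q) →* Cfsg.PSU 3 F q := QuotientGroup.mk' (Subgroup.center ↥(Cfsg.SU 3 F q))
  refine involves_three_of_inverted (r := π r) (a := π a) ?_ (by rw [← map_mul, h2, map_one]) ?_
  · haveI : Fact (Nat.Prime 3) := ⟨Nat.prime_three⟩
    refine orderOf_eq_prime (by rw [pow_succ, pow_two, ← map_mul, ← map_mul, h3, map_one]) fun h => ?_
    have hc := Subgroup.mem_center_iff.1 ((QuotientGroup.eq_one_iff r).1 h) a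
    have h5 := congrArg (fun g : ↥(Cfsg.SU 3 F q) => g.1.1 0 0) hc
    simp [hr, ha, Matrix.mul_apply, Fin.sum_univ_three, PSU3Simple.val_mul] at h5
  · rw [mul_inv_eq_iff_eq_mul, ← map_mul, har, map_mul, map_mul,
      inv_eq_of_mul_eq_one_left (a := π r * π r) (by rw [← map_mul, ← map_mul, h3, map_one])]

end Cfsg.Agent.Char.ReeThree.Branch
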