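import Cfsg.Agent.Lib.Char.ReeThree.Branches.Psl
import Cfsg.Agent.Lib.Char.ReeThree.Branches.Unitary
import Cfsg.Agent.Lib.Lie.JankoCent
import Cfsg.Agent.Lib.Lie.JankoCard
import Cfsg.Agent.Lib.Solv.CIT.SzModel

/-!
# Goldschmidt groups: the short branches
-/

set_option autoImplicit false
set_option linter.unusedSectionVars false
set_option linter.style.haveILetI false

namespace Cfsg.Agent.Char.ReeThree.Branch

open Cfsg

universe u

variable {G : Type u} [Group G] [Finite G]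

theorem suzuki_not_dvd (h : Lie.IsoSuzuki G) : ¬ 3 ∣ Nat.card G := by
  obtain ⟨F, iF, iFF, m, hm, hF, ⟨e⟩⟩ := h
  have hc := (Nat.card_congr e.toEquiv).trans (Cfsg.Agent.Solv.CITGroups.SzModel.card_model hF hm)
  have hq : 2 ^ (2 * m + 1) % 3 = 2 := by rw [pow_succ, pow_mul, Nat.mul_mod, Nat.pow_mod]; norm_num
  obtain ⟨q, hqd⟩ : ∃ q, q = 2 ^ (2 * m + 1) := ⟨_, rfl⟩
  rw [← hqd] at hc hq
  intro hd
  rw [hc] at hd
  have hq2 : q ^ 2 % 3 = 1 := by rw [Nat.pow_mod, hq]
  rcases Nat.prime_three.dvd_mul.1 hd with h' | h'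
  · rcases Nat.prime_three.dvd_mul.1 h' with h'' | h'' <;> omega
  · omega

theorem list_not_involves (h : IsSuzukiOrPSL2OddPowerThree G) : ¬ Involves (Equiv.Perm (Fin 3)) G := by
  rcases h with h | ⟨F, hF, hFt, n, hc, ⟨e⟩⟩
  · intro hI
    refine suzuki_not_dvd h (dvd_trans ?_ (card_dvd_of_involves hI))
    rw [Nat.card_perm, Nat.card_fin]
    decide
  · exact fun hI => psl_not_involves_three hc (involves_of_iso e hI)

theorem suzuki_four (h : Lie.IsoSuzuki G) : ¬ Involves (Equiv.Perm (Fin 4)) G := fun hI =>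
  suzuki_not_dvd h (dvd_trans (by rw [Nat.card_perm, Nat.card_fin]; decide) (card_dvd_of_involves hI))

theorem a5_twoAbelian : TwoAbelian (alternatingGroup (Fin 5)) := by
  haveI : Fact (Nat.Prime 2) := ⟨Nat.prime_two⟩
  intro P hP x hx y hy
  obtain ⟨k, hk⟩ := IsPGroup.iff_card.1 hP
  have hc : Nat.card (alternatingGroup (Fin 5)) = 60 := by
    rw [nat_card_alternatingGroup, Nat.card_fin]; decide
  have hdvd := P.card_subgroup_dvd_card
  rw [hk, hc] at hdvd
  have hk2 : k ≤ 2 := by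
    by_contra hc'
    have : 8 ∣ 60 := (pow_dvd_pow 2 (show 3 ≤ k by omega)).trans hdvd
    omega
  interval_cases k
  · haveI : IsCyclic P := @isCyclic_of_subsingleton _ _ (Nat.card_eq_one_iff_unique.1 (by simpa using hk)).1
    exact congrArg Subtype.val (IsCyclic.commGroup.mul_comm (⟨x, hx⟩ : P) ⟨y, hy⟩)
  · haveI : IsCyclic P := isCyclic_of_prime_card (p := 2) (by simpa using hk)
    exact congrArg Subtype.val (IsCyclic.commGroup.mul_comm (⟨x, hx⟩ : P) ⟨y, hy⟩)
  · exact congrArg Subtype.val (IsPGroup.isMulCommutative_of_card_eq_prime_sq (p := 2) (G := P) hk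
      |>.is_comm.comm (⟨x, hx⟩ : P) ⟨y, hy⟩)

theorem a5_involves_three : Involves (Equiv.Perm (Fin 3)) (alternatingGroup (Fin 5)) := by
  let r : alternatingGroup (Fin 5) := ⟨Equiv.swap 0 1 * Equiv.swap 1 2, Equiv.Perm.mem_alternatingGroup.2 (by decide)⟩
  let a : alternatingGroup (Fin 5) := ⟨Equiv.swap 0 1 * Equiv.swap 3 4, Equiv.Perm.mem_alternatingGroup.2 (by decide)⟩
  haveI : Fact (Nat.Prime 3) := ⟨Nat.prime_three⟩
  exact involves_three_of_inverted (r := r) (a := a) (orderOf_eq_prime (by decide) (by decide)) (by decide) (by decide)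

/-- The branch `J₁`. -/
theorem janko (h : Spor.IsoJ1 G) :
    ¬ Involves (Equiv.Perm (Fin 4)) G ∧ Involves (Equiv.Perm (Fin 3)) G := by
  obtain ⟨e⟩ := h
  haveI : Finite Spor.J1 := Finite.of_equiv G e.toEquiv
  obtain ⟨t, ht, ⟨f⟩⟩ := Cfsg.Agent.Lie.Janko.exists_cent
  have hodd : Odd (Subgroup.centralizer ({t} : Set Spor.J1)).index := by
    have h1 := (Subgroup.centralizer ({t} : Set Spor.J1)).card_mul_index
    rw [Cfsg.Agent.Lie.Janko.card_eq, Nat.card_congr f.toEquiv, Nat.card_prod, nat_card_alternatingGroup,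
      Nat.card_congr Multiplicative.toAdd, Nat.card_zmod, Nat.card_fin] at h1
    norm_num at h1
    rw [Nat.odd_iff]
    omega
  have hab : TwoAbelian Spor.J1 :=
    twoAbelian_of_odd_index hodd (twoAbelian_of_injective (twoAbelian_prod a5_twoAbelian) f.toMonoidHom f.injective)
  refine ⟨not_involves_four_of_comm (twoAbelian_of_injective hab e.toMonoidHom e.injective), ?_⟩
  refine involves_of_iso e.symm ?_
  obtain ⟨K, g, hg⟩ := Fusion.involves_exists_surjective a5_involves_three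
  let i : alternatingGroup (Fin 5) →* Spor.J1 :=
    (Subgroup.centralizer ({t} : Set Spor.J1)).subtype.comp (f.symm.toMonoidHom.comp (MonoidHom.inr _ _))
  have hi : Function.Injective i := fun x y hxy =>
    congrArg Prod.snd (f.symm.injective (Subtype.ext hxy))
  exact Fusion.involves_of_surjective (g.comp (K.equivMapOfInjective i hi).symm.toMonoidHom)
    (hg.comp (K.equivMapOfInjective i hi).symm.surjective)

/-- The Sylow two-subgroups of a group of Ree type are abelian. -/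
theorem ree_twoAbelian (h : IsReeType G) : TwoAbelian G := by
  obtain ⟨-, -, t, K, n, -, -, hodd, hdp, F, hF, hFt, hc, ⟨e⟩⟩ := h
  obtain ⟨-, hKC, hcomm, hinf, hsup⟩ := hdp
  refine twoAbelian_of_odd_index hodd ?_
  let φ : (Subgroup.zpowers t) × K →* Subgroup.centralizer ({t} : Set G) :=
    { toFun := fun p => ⟨(p.1 : G) * (p.2 : G), hsup ▸ (Subgroup.zpowers t ⊔ K).mul_mem
        (Subgroup.mem_sup_left p.1.2) (Subgroup.mem_sup_right p.2.2)⟩
      map_one' := by ext; simp
      map_mul' := fun p r => Subtype.ext (by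
        simp only [Prod.fst_mul, Prod.snd_mul, Subgroup.coe_mul]
        rw [mul_assoc, mul_assoc, ← mul_assoc (r.1 : G), hcomm _ r.1.2 _ p.2.2, mul_assoc]) }
  have hinj : Function.Injective φ := by
    rintro ⟨a, b⟩ ⟨a', b'⟩ hab
    have h1 : (a : G) * b = (a' : G) * b' := congrArg Subtype.val hab
    have h2 : (a' : G)⁻¹ * a = (b' : G) * (b : G)⁻¹ := by
      rw [eq_mul_inv_iff_mul_eq, mul_assoc, h1, inv_mul_cancel_left]
    have h3 : (a' : G)⁻¹ * a ∈ Subgroup.zpowers t ⊓ K :=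
      Subgroup.mem_inf.2 ⟨Subgroup.mul_mem _ (Subgroup.inv_mem _ a'.2) a.2, h2 ▸ Subgroup.mul_mem _ b'.2 (Subgroup.inv_mem _ b.2)⟩
    rw [hinf, Subgroup.mem_bot] at h3
    have ha : (a' : G) = a := inv_mul_eq_one.1 h3
    refine Prod.ext (Subtype.ext ha.symm) (Subtype.ext ?_)
    rw [← ha] at h1
    exact mul_left_cancel h1
  have hsurj : Function.Surjective φ := by
    rintro ⟨x, hx⟩
    have hle : Subgroup.zpowers t ⊔ K ≤ φ.range.map (Subgroup.centralizer ({t} : Set G)).subtype :=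
      sup_le (fun a ha => ⟨φ (⟨a, ha⟩, 1), ⟨_, rfl⟩, mul_one a⟩) (fun b hb => ⟨φ (1, ⟨b, hb⟩), ⟨_, rfl⟩, one_mul b⟩)
    obtain ⟨y, ⟨p, rfl⟩, hy⟩ := hle (hsup.symm ▸ hx)
    exact ⟨p, Subtype.ext hy⟩
  let f := (MulEquiv.ofBijective φ ⟨hinj, hsurj⟩).symm
  intro P hP x hx y hy
  refine f.injective ?_
  rw [map_mul, map_mul]
  refine Prod.ext ?_ ?_
  · exact Subtype.ext (by
      obtain ⟨i, hi⟩ := (f x).1.2
      obtain ⟨j, hj⟩ := (f y).1.2
      simp only [Prod.fst_mul, Subgroup.coe_mul, ← hi, ← hj, ← zpow_add, add_comm])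
  · exact e.injective (by
      rw [Prod.snd_mul, Prod.snd_mul, map_mul, map_mul]
      exact psl_twoAbelian_odd (Or.inl (by rw [hc, pow_succ, pow_mul, Nat.mul_mod, Nat.pow_mod]; norm_num)) _
        (hP.map (e.toMonoidHom.comp ((MonoidHom.snd _ _).comp f.toMonoidHom))) _ ⟨x, hx, rfl⟩ _ ⟨y, hy, rfl⟩)

end Cfsg.Agent.Char.ReeThree.Branch

namespace Cfsg.Agent.Char.ReeThree

open Cfsg Branch

universe u v

/-- The statement on Goldschmidt groups, given the section `D₆` in every group of Ree type. -/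
theorem goldschmidt_of_ree {G : Type u} [Group G] [Finite G]
    (hree : IsReeType G → Involves (DihedralGroup 3) G) (hG : IsGoldschmidtGroup G) :
    ¬ Involves (Equiv.Perm (Fin 4)) G ∧
      (¬ Involves (Equiv.Perm (Fin 3)) G ↔ IsSuzukiOrPSL2OddPowerThree G) := by
  suffices h : ¬ Involves (Equiv.Perm (Fin 4)) G ∧
      (¬ Involves (Equiv.Perm (Fin 3)) G → IsSuzukiOrPSL2OddPowerThree G) from ⟨h.1, h.2, list_not_involves⟩
  rcases hG with h | ⟨F, hF, hFt, n, hn, hc, ⟨e⟩⟩ | h | ⟨F, hF, hFt, n, hn, hc, ⟨e⟩⟩ |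
      ⟨F, hF, hFt, q, hc, -, hq, ⟨e⟩⟩ | h
  · exact ⟨not_involves_four_of_comm (ree_twoAbelian h), fun hn => (hn (involves_s3_iff.2 (hree h))).elim⟩
  · refine ⟨not_involves_four_of_comm (twoAbelian_of_injective (psl_twoAbelian_even (by omega) hc) e.toMonoidHom e.injective),
      fun h => (h (involves_of_iso e.symm (psl_involves_three ?_))).elim⟩
    intro h3
    haveI : Fact (Nat.Prime 2) := ⟨Nat.prime_two⟩
    haveI : CharP F 2 := charP_of_card_eq_prime_pow hc
    have h2 := CharTwo.two_eq_zero (R := F)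
    exact one_ne_zero (show (1 : F) = 0 by linear_combination h3 - h2)
  · exact ⟨suzuki_four h, fun _ => Or.inl h⟩
  · haveI : Fact (Nat.Prime 2) := ⟨Nat.prime_two⟩
    have hc' : Fintype.card F = (2 ^ n) ^ 2 := by rw [hc, ← pow_mul, mul_comm, pow_mul]; norm_num
    haveI : CharP F 2 := charP_of_card_eq_prime_pow (f := n * 2) (by rw [hc', ← pow_mul])
    obtain ⟨σ, hσ⟩ := Cfsg.Agent.Lie.UnitarySylow.sigma_props (F := F) (show 1 ≤ n by omega) hc'
    refine ⟨fun hI => ?_, fun h => (h (involves_of_iso e.symm (psu_involves_three hσ))).elim⟩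
    exact not_involves_quotient (QuotientGroup.mk' (Subgroup.center ↥(Cfsg.SU 3 F (2 ^ n))))
      (QuotientGroup.mk'_surjective _) (su_not_involves_four hσ (show 1 ≤ n by omega) rfl) (involves_of_iso e hI)
  · rw [← hc] at hq
    refine ⟨not_involves_four_of_comm (twoAbelian_of_injective (psl_twoAbelian_odd hq) e.toMonoidHom e.injective),
      fun h => ?_⟩
    by_cases h3 : (3 : F) = 0
    · obtain ⟨m, hm⟩ := three_pow_odd hq h3
      exact Or.inr ⟨F, hF, hFt, m, hm, ⟨e⟩⟩
    · exact (h (involves_of_iso e.symm (psl_involves_three h3))).elim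
  · exact ⟨(janko h).1, fun hn => (hn (janko h).2).elim⟩

end Cfsg.Agent.Char.ReeThree
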