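import Cfsg.Agent.Lib.Char.ReeThree.Branches.General
import Cfsg.Agent.Lib.Small.PSL2
import Cfsg.Agent.Lib.Classical.Dickson.Tools

/-!
# `PSL₂(q)`: sections `S₃` and Sylow two-subgroups
-/

set_option autoImplicit false
set_option linter.unusedSectionVars false
set_option linter.style.haveILetI false
set_option linter.unnecessarySeqFocus false

namespace Cfsg.Agent.Char.ReeThree.Branch

open Cfsg Cfsg.Agent.Small

variable {F : Type} [Field F] [Fintype F]

local notation "SL2" => Matrix.SpecialLinearGroup (Fin 2) F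
local notation "P2" => Matrix.ProjectiveSpecialLinearGroup (Fin 2) F

theorem exists_coeff (h3 : (3 : F) ≠ 0) : ∃ a b : F, a * a + a * b + b * b = -1 := by
  by_cases h2 : (2 : F) = 0
  · exact ⟨1, 0, by linear_combination h2⟩
  · obtain ⟨u, b, h⟩ := FiniteField.exists_root_sum_quadratic (R := F)
      (f := Polynomial.X ^ 2) (g := Polynomial.C 3 * Polynomial.X ^ 2 + Polynomial.C 0 * Polynomial.X + Polynomial.C 4)
      (Polynomial.degree_X_pow 2) (Polynomial.degree_quadratic h3)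
      (FiniteField.odd_card_of_char_ne_two fun hc => h2 (by
        haveI := ringChar.of_eq hc
        exact CharTwo.two_eq_zero))
    simp only [Polynomial.eval_pow, Polynomial.eval_X, Polynomial.eval_add, Polynomial.eval_mul, Polynomial.eval_C,
      zero_mul, add_zero] at h
    refine ⟨(u - b) / 2, b, ?_⟩
    field_simp
    linear_combination h

/-- Outside characteristic three there is a section `S₃`. -/
theorem psl_involves_three (h3 : (3 : F) ≠ 0) : Involves (Equiv.Perm (Fin 3)) P2 := by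
  obtain ⟨a, b, hab⟩ := exists_coeff h3
  let y : SL2 := ⟨!![0, -1; 1, -1], by simp [Matrix.det_fin_two]⟩
  let x : SL2 := ⟨!![a, b; a + b, -a], by simp [Matrix.det_fin_two]; linear_combination -hab⟩
  have hy3 : y * y * y = 1 := by
    apply Subtype.ext
    simp only [PSL2.val_mul]
    ext i j
    fin_cases i <;> fin_cases j <;> simp [y, Matrix.mul_apply, Fin.sum_univ_two]
  have hr : orderOf (PSL2.pr y) = 3 := by
    haveI : Fact (Nat.Prime 3) := ⟨Nat.prime_three⟩
    refine orderOf_eq_prime ?_ fun h => ?_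
    · rw [pow_succ, pow_two, ← map_mul, ← map_mul, hy3, map_one]
    · rw [← map_one PSL2.pr] at h
      obtain ⟨ε, -, he⟩ := (PSL2.pr_eq_iff _ _).1 h
      have := congrFun (congrFun he 0) 1
      simp [y] at this
  have ha : PSL2.pr x * PSL2.pr x = 1 := by
    rw [← map_mul, ← map_one PSL2.pr, PSL2.pr_eq_iff]
    refine ⟨-1, by ring, ?_⟩
    simp only [PSL2.val_mul]
    ext i j
    fin_cases i <;> fin_cases j <;> simp [x, Matrix.mul_apply, Fin.sum_univ_two] <;>
      first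
        | ring1
        | linear_combination hab
  have hxy : x * y = y * y * x := by
    apply Subtype.ext
    simp only [PSL2.val_mul]
    ext i j
    fin_cases i <;> fin_cases j <;> simp [x, y, Matrix.mul_apply, Fin.sum_univ_two] <;> ring
  refine involves_three_of_inverted hr ha ?_
  rw [mul_inv_eq_iff_eq_mul, ← map_mul, hxy, map_mul, map_mul,
    inv_eq_of_mul_eq_one_left (a := PSL2.pr y * PSL2.pr y) (by rw [← map_mul, ← map_mul, hy3, map_one])]

theorem card_U : Nat.card (PSL2.U : Subgroup P2) = Fintype.card F := by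
  rw [PSL2.U, ← Nat.card_congr (MonoidHom.ofInjective (f := PSL2.uP (F := F)) fun x y h =>
    Multiplicative.toAdd.injective (PSL2.pr_uS_inj h)).toEquiv, Nat.card_congr Multiplicative.toAdd,
    Nat.card_eq_fintype_card]

theorem U_comm {x y : P2} (hx : x ∈ PSL2.U) (hy : y ∈ PSL2.U) : x * y = y * x := by
  obtain ⟨a, rfl⟩ := hx
  obtain ⟨b, rfl⟩ := hy
  rw [← map_mul, ← map_mul, mul_comm]

/-- The subgroup `U` is a Sylow subgroup in the defining characteristic. -/
theorem conj_mem_U {p f : ℕ} [Fact p.Prime] (hF : Fintype.card F = p ^ f) (hf : 1 ≤ f) {P : Subgroup P2}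
    (hP : IsPGroup p P) : ∃ c : P2, ∀ z ∈ P, ∃ u ∈ (PSL2.U : Subgroup P2), z = c * u * c⁻¹ := by
  have hi : ¬ p ∣ (PSL2.U : Subgroup P2).index := by
    intro hd
    have h1 := (PSL2.U : Subgroup P2).card_mul_index
    rw [card_U] at h1
    have h2 := Classical.Dickson.card_P2 (F := F)
    rw [← h1, mul_assoc] at h2
    have h3 : p ∣ Fintype.card F ^ 2 - 1 :=
      (Nat.eq_of_mul_eq_mul_left Fintype.card_pos h2) ▸ hd.mul_right _
    have h4 : p ∣ Fintype.card F ^ 2 := dvd_pow (hF ▸ dvd_pow_self p (by omega)) two_ne_zero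
    have h5 : 1 ≤ Fintype.card F ^ 2 := Nat.one_le_pow _ _ Fintype.card_pos
    have h6 := Nat.dvd_sub h4 h3
    rw [show Fintype.card F ^ 2 - (Fintype.card F ^ 2 - 1) = 1 by omega, Nat.dvd_one] at h6
    exact (Fact.out : p.Prime).ne_one h6
  obtain ⟨T, hT⟩ := hP.exists_le_sylow
  obtain ⟨c, hc⟩ := MulAction.exists_smul_eq P2 ((PSL2.isPGroup_U hF).toSylow hi) T
  refine ⟨c, fun z hz => ?_⟩
  have h1 := hT hz
  rw [← hc, Sylow.coe_subgroup_smul] at h1
  obtain ⟨u, hu, rfl⟩ := h1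
  exact ⟨u, hu, rfl⟩

/-- `PSL₂(3^(2n+1))` has no section `S₃`. -/
theorem psl_not_involves_three {n : ℕ} (hF : Fintype.card F = 3 ^ (2 * n + 1)) :
    ¬ Involves (Equiv.Perm (Fin 3)) P2 := by
  haveI : Fact (Nat.Prime 3) := ⟨Nat.prime_three⟩
  refine not_involves_three fun g y hy hy1 h => ?_
  obtain ⟨k, hk⟩ := hy
  obtain ⟨c, hc⟩ := conj_mem_U hF (by omega) (IsPGroup.of_card (n := k) (p := 3) (G := Subgroup.zpowers y)
    (by rw [Nat.card_zpowers, hk]))
  obtain ⟨u, hu, rfl⟩ := hc y (Subgroup.mem_zpowers _)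
  obtain ⟨s, rfl⟩ := (PSL2.mem_U u).1 hu
  obtain ⟨A, hA⟩ := PSL2.pr_surjective (c⁻¹ * g * c)
  have hs : s ≠ 0 := fun h0 => hy1 (by
    rw [h0, show PSL2.uS (0 : F) = 1 by apply Subtype.ext; simp [Matrix.one_fin_two], map_one]; group)
  have hneg : (PSL2.pr (PSL2.uS s))⁻¹ = PSL2.pr (PSL2.uS (-s)) := by
    refine inv_eq_of_mul_eq_one_right ?_
    rw [← map_mul, ← PSL2.uS_add, add_neg_cancel,
      show PSL2.uS (0 : F) = 1 by apply Subtype.ext; simp [Matrix.one_fin_two], map_one]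
  have e : PSL2.pr A * PSL2.pr (PSL2.uS s) = PSL2.pr (PSL2.uS (-s)) * PSL2.pr A := by
    rw [← hneg, hA, ← mul_inv_eq_iff_eq_mul]
    calc c⁻¹ * g * c * PSL2.pr (PSL2.uS s) * (c⁻¹ * g * c)⁻¹
        = c⁻¹ * (g * (c * PSL2.pr (PSL2.uS s) * c⁻¹) * g⁻¹) * c := by group
      _ = (PSL2.pr (PSL2.uS s))⁻¹ := by rw [h]; group
  rw [← map_mul, PSL2.triangular_mul_uS A (PSL2.triangular_of_conj hs e), map_mul] at e
  have h2 := PSL2.pr_uS_inj (mul_right_cancel e)
  have h3 : IsSquare (-1 : F) := ⟨A.1 0 0, mul_right_cancel₀ hs (by linear_combination -h2)⟩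
  have h4 := FiniteField.isSquare_neg_one_iff.1 h3
  rw [hF, pow_succ, pow_mul, Nat.mul_mod, Nat.pow_mod] at h4
  norm_num at h4

/-- Fields with `q ≡ ±3 (mod 8)` give abelian Sylow two-subgroups. -/
theorem psl_twoAbelian_odd (hq : Fintype.card F % 8 = 3 ∨ Fintype.card F % 8 = 5) : TwoAbelian P2 := by
  haveI : Fact (Nat.Prime 2) := ⟨Nat.prime_two⟩
  intro P hP x hx y hy
  obtain ⟨k, hk⟩ := IsPGroup.iff_card.1 hP
  have h2 : (2 : F) ≠ 0 := fun h0 => by
    have hd : ringChar F = 2 := CharP.ringChar_of_prime_eq_zero Nat.prime_two (by exact_mod_cast h0)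
    have := FiniteField.even_card_of_char_two hd
    omega
  have hcard := Classical.Dickson.card_P2 (F := F)
  rw [Classical.Dickson.two_dvd_pred h2] at hcard
  have h16 : Fintype.card F * (Fintype.card F ^ 2 - 1) % 16 = 8 := by
    obtain ⟨a, ha⟩ : ∃ a, Fintype.card F = 8 * a + 3 ∨ Fintype.card F = 8 * a + 5 := ⟨Fintype.card F / 8, by omega⟩
    rcases ha with ha | ha <;> rw [ha]
    · rw [show (8 * a + 3) ^ 2 - 1 = 16 * (4 * a * a + 3 * a) + 8 by
        rw [show (8 * a + 3) ^ 2 = 16 * (4 * a * a + 3 * a) + 9 by ring]; omega,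
        show (8 * a + 3) * (16 * (4 * a * a + 3 * a) + 8) = 16 * ((8 * a + 3) * (4 * a * a + 3 * a) + 4 * a + 1) + 8 by ring]
      omega
    · rw [show (8 * a + 5) ^ 2 - 1 = 16 * (4 * a * a + 5 * a + 1) + 8 by
        rw [show (8 * a + 5) ^ 2 = 16 * (4 * a * a + 5 * a + 1) + 9 by ring]; omega,
        show (8 * a + 5) * (16 * (4 * a * a + 5 * a + 1) + 8) =
          16 * ((8 * a + 5) * (4 * a * a + 5 * a + 1) + 4 * a + 2) + 8 by ring]
      omega
  have hdvd := P.card_subgroup_dvd_card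
  rw [hk] at hdvd
  have hk2 : k ≤ 2 := by
    by_contra hc
    have h8 : 8 ∣ Nat.card P2 := (pow_dvd_pow 2 (show 3 ≤ k by omega)).trans hdvd
    omega
  have hexp : k ≤ 1 ∨ k = 2 := by omega
  rcases hexp with h | h
  · haveI : IsCyclic P := by
      interval_cases k
      · exact @isCyclic_of_subsingleton _ _ (Nat.card_eq_one_iff_unique.1 (by simpa using hk)).1
      · exact isCyclic_of_prime_card (p := 2) (by simpa using hk)
    exact congrArg Subtype.val (IsCyclic.commGroup.mul_comm (⟨x, hx⟩ : P) ⟨y, hy⟩)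
  · exact congrArg Subtype.val (IsPGroup.isMulCommutative_of_card_eq_prime_sq (p := 2) (G := P)
      (by rw [hk, h]) |>.is_comm.comm (⟨x, hx⟩ : P) ⟨y, hy⟩)

theorem psl_twoAbelian_even {n : ℕ} (hn : 1 ≤ n) (hF : Fintype.card F = 2 ^ n) : TwoAbelian P2 := by
  haveI : Fact (Nat.Prime 2) := ⟨Nat.prime_two⟩
  intro P hP x hx y hy
  obtain ⟨c, hc⟩ := conj_mem_U hF hn hP
  obtain ⟨a, ha, rfl⟩ := hc x hx
  obtain ⟨b, hb, rfl⟩ := hc y hy
  rw [show c * a * c⁻¹ * (c * b * c⁻¹) = c * (a * b) * c⁻¹ by group,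
    show c * b * c⁻¹ * (c * a * c⁻¹) = c * (b * a) * c⁻¹ by group, U_comm ha hb]

theorem three_pow_odd (hq : Fintype.card F % 8 = 3 ∨ Fintype.card F % 8 = 5) (h3 : (3 : F) = 0) :
    ∃ n : ℕ, Fintype.card F = 3 ^ (2 * n + 1) := by
  haveI : Fact (Nat.Prime 3) := ⟨Nat.prime_three⟩
  haveI : CharP F 3 := (CharP.charP_iff_prime_eq_zero Nat.prime_three).2 (by exact_mod_cast h3)
  obtain ⟨k, -, hk⟩ := FiniteField.card F 3
  rcases Nat.even_or_odd' (k : ℕ) with ⟨m, hm | hm⟩
  · rw [hk, hm, pow_mul, Nat.pow_mod] at hq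
    norm_num at hq
  · exact ⟨m, by rw [hk, hm]⟩

end Cfsg.Agent.Char.ReeThree.Branch
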